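import Cfsg.Agent.H995.LB.Elts
import Cfsg.Agent.H995.LB.PSL

/-!
# `PSL(2, 23)` in the Baby Monster: one class, self-normalising (helper995, for S5524)
-/

set_option autoImplicit false

namespace Cfsg.Agent.H995.LB

open Subgroup
open Cfsg.Agent.Monster.VecEngine Cfsg.Agent.Monster.VecSpace
open Cfsg.Agent.BabyM.Conc Cfsg.Agent.BabyM.Inst Cfsg.Agent.BabyM.WordsInst
  Cfsg.Agent.BM.StageW Cfsg.Agent.BabyM.TransCover

/-- There are `26` elements of square `1` in `S₅`. -/
theorem card_sq : Fintype.card {σ : Equiv.Perm (Fin 5) // σ * σ = 1} = 26 := by decide +kernel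

theorem perm_four : ∀ ρ : Equiv.Perm (Fin 5), ρ * ρ ≠ 1 → ρ * ρ * (ρ * ρ) = 1 →
    ∀ τ : Equiv.Perm (Fin 5), τ * (ρ * ρ) = ρ * ρ * τ → τ * τ * (τ * τ) = 1 := by decide +kernel

theorem X_ne : X ≠ 1 := by
  intro h
  have h1 : k7 (Sw 1) (Sn 1) = true := by
    rcases d_norm 1 with h | h | h
    · exact absurd h (by decide)
    · exact absurd h (by decide)
    · exact h
  apply k7_sound h1
  have h2 : W wx = 1 := congrArg Subtype.val h
  rw [h2]
  rfl

theorem s0 : s 0 = 1 := Wg_nil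

theorem s3 : s 3 = Z := rfl

section

variable {K : Subgroup M.G} (e : K ≃* Equiv.Perm (Fin 5)) (hK : ∀ k ∈ K, k * P = P * k)
  (hc : ∀ g : M.G, g * P = P * g → ∃ k ∈ K, ∃ n : ℕ, g = P ^ n * k)

include e

theorem card_K : Nat.card K = 120 := by
  rw [Nat.card_congr e.toEquiv, Nat.card_eq_fintype_card, Fintype.card_perm, Fintype.card_fin]
  rfl

theorem P_pow_of_mem {n : ℕ} (h : P ^ n ∈ K) : P ^ n = 1 := by
  rw [← orderOf_eq_one_iff]
  have hcop : Nat.Coprime (Nat.card K) 11 := by rw [card_K e]; decide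
  apply Nat.eq_one_of_dvd_coprimes hcop
  · rw [← Subgroup.orderOf_mk _ h]
    exact orderOf_dvd_natCard _
  · apply orderOf_dvd_of_pow_eq_one
    rw [← pow_mul, mul_comm, pow_mul, P11, one_pow]

include hK hc

theorem mem_K {g : M.G} (hg : g * P = P * g) (h2 : g * g ∈ K) : g ∈ K := by
  obtain ⟨k, hk, n, rfl⟩ := hc g hg
  have hkP : k * P ^ n = P ^ n * k := Commute.pow_right (hK k hk) n
  have h3 : P ^ n * k * (P ^ n * k) = P ^ (n + n) * (k * k) := by
    calc P ^ n * k * (P ^ n * k) = P ^ n * (k * P ^ n) * k := by simp only [mul_assoc]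
      _ = P ^ n * P ^ n * (k * k) := by rw [hkP]; simp only [mul_assoc]
      _ = _ := by rw [← pow_add]
  rw [h3] at h2
  have h4 : P ^ (n + n) ∈ K := (mul_mem_cancel_right (mul_mem hk hk)).1 h2
  have h5 := P_pow_of_mem e h4
  have h6 : P ^ n = 1 := by
    have h7 : P ^ (12 * n) = P ^ n := by
      rw [show 12 * n = 11 * n + n by ring, pow_add, pow_mul, P11, one_pow, one_mul]
    rw [← h7, show 12 * n = (n + n) * 6 by ring, pow_mul, h5, one_pow]
  rw [h6, one_mul]
  exact hk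

theorem s_mem (i : Fin 26) : s i ∈ K := mem_K e hK hc (s_P i) (by rw [s_sq]; exact K.one_mem)

/-- every element of square `1` is in the list -/
theorem exists_s {k : M.G} (hk : k ∈ K) (hkk : k * k = 1) : ∃ i, k = s i := by
  have hsub : ∀ (a : M.G) (ha : a ∈ K), a * a = 1 → e ⟨a, ha⟩ * e ⟨a, ha⟩ = 1 := by
    intro a ha h2
    rw [← map_mul, show (⟨a, ha⟩ : K) * ⟨a, ha⟩ = 1 from Subtype.ext h2, map_one]
  let f : Fin 26 → {σ : Equiv.Perm (Fin 5) // σ * σ = 1} := fun i =>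
    ⟨e ⟨s i, s_mem e hK hc i⟩, hsub _ _ (s_sq i)⟩
  have hinj : Function.Injective f := by
    intro i j hij
    have h1 : e ⟨s i, s_mem e hK hc i⟩ = e ⟨s j, s_mem e hK hc j⟩ := congrArg Subtype.val hij
    exact s_inj (congrArg Subtype.val (e.injective h1))
  have hbij : Function.Bijective f :=
    (Fintype.bijective_iff_injective_and_card f).2 ⟨hinj, by rw [card_sq, Fintype.card_fin]⟩
  obtain ⟨i, hi⟩ := hbij.2 ⟨e ⟨k, hk⟩, hsub k hk hkk⟩
  have h1 : e ⟨s i, s_mem e hK hc i⟩ = e ⟨k, hk⟩ := congrArg Subtype.val hi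
  exact ⟨i, (congrArg Subtype.val (e.injective h1)).symm⟩

theorem kd {k : M.G} (hk : k ∈ K) : k * D = D * k := by
  have key : ∀ σ : Equiv.Perm (Fin 5), ((e.symm σ : K) : M.G) * D = D * ((e.symm σ : K) : M.G) := by
    intro σ
    induction σ using Equiv.Perm.swap_induction_on with
    | one => rw [map_one, OneMemClass.coe_one, one_mul, mul_one]
    | swap_mul f x y hxy ih =>
      have h1 : ((e.symm (Equiv.swap x y) : K) : M.G) * ((e.symm (Equiv.swap x y) : K) : M.G) = 1 := by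
        rw [← Subgroup.coe_mul, ← map_mul, Equiv.swap_mul_self, map_one, OneMemClass.coe_one]
      obtain ⟨i, hi⟩ := exists_s e hK hc (e.symm (Equiv.swap x y)).2 h1
      rw [map_mul, Subgroup.coe_mul, hi, mul_assoc, ih, ← mul_assoc, s_D, mul_assoc]
  have h1 := key (e ⟨k, hk⟩)
  rwa [e.symm_apply_apply] at h1

theorem conf : Conf X P D K where
  x23 := X23
  x_ne := X_ne
  y11 := P11
  yx := PX
  dd := D_sq
  dy := DPD
  kP := hK
  kd := fun _ hk => kd e hK hc hk
  cent := hc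
  cop := by rw [card_K e]; decide

/-- **One class.** -/
theorem conj_H (h11 : ¬ 11 ^ 2 ∣ Nat.card M.G) (h23 : ¬ 23 ^ 2 ∣ Nat.card M.G) (hfin : Finite M.G) {x y t : M.G}
    (h : Rel x y t) (hx : x ≠ 1) :
    ∃ g : M.G, (closure {x, y, t}).map (MulAut.conj g).toMonoidHom = closure {X, P, D * s 25} := by
  obtain ⟨g, k, hk, hkk, j, hj, h3, hm⟩ := (conf e hK hc).red h11 h23 h hx
  obtain ⟨i, rfl⟩ := exists_s e hK hc hk hkk
  obtain ⟨hi, rfl⟩ := main_test i j hj h3
  rw [pow_zero, one_mul] at hm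
  rcases hi with rfl | rfl
  · refine ⟨Z * g, ?_⟩
    rw [map_conj_mul, hm, map_conj_closure]
    have hZ : Z⁻¹ = Z := inv_eq_of_mul_eq_one_left Z_sq
    have e1 : Z * X * Z⁻¹ = X := by rw [Z_X, mul_inv_cancel_right]
    have e2 : Z * P * Z⁻¹ = P := by rw [Z_P, mul_inv_cancel_right]
    have e3 : Z * (D * s 20) * Z⁻¹ = D * s 25 := by
      rw [hZ, s20]
      calc Z * (D * (Z * s 25 * Z)) * Z = (Z * D) * Z * s 25 * (Z * Z) := by simp only [mul_assoc]
        _ = D * (Z * Z) * s 25 * (Z * Z) := by rw [Z_D]; simp only [mul_assoc]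
        _ = D * s 25 := by rw [Z_sq, mul_one, mul_one]
    rw [e1, e2, e3]
  · exact ⟨g, hm⟩

/-- **Self-normalising.** -/
theorem norm_H (h11 : ¬ 11 ^ 2 ∣ Nat.card M.G) (h23 : ¬ 23 ^ 2 ∣ Nat.card M.G) (hfin : Finite M.G) :
    normalizer (closure {X, P, D * s 25} : Set M.G) = closure {X, P, D * s 25} := by
  refine (conf e hK hc).normalizer_eq h11 h23 (s_mem e hK hc 25) rel25 (card_closure rel25 X_ne) ?_
  -- involutions
  have key : ∀ k ∈ K, k * s 25 = s 25 * k → k ∈ normalizer (zpowers X : Set M.G) → k * k = 1 → k = 1 := by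
    intro k hk hks hkN hkk
    obtain ⟨i, rfl⟩ := exists_s e hK hc hk hkk
    rcases d_norm i with rfl | rfl | h
    · exact s0
    · exfalso
      rw [s3] at hks
      have h1 : s 20 = s 25 := by rw [s20, hks, mul_assoc, Z_sq, mul_one]
      exact absurd (s_inj h1) (by decide)
    · exfalso
      apply k7_sound h
      have h1 : s i * X * (s i)⁻¹ ∈ zpowers X := (mem_normalizer_iff.1 hkN X).1 (mem_zpowers X)
      have h2 : (s i)⁻¹ * X * s i ∈ zpowers X := (mem_normalizer_iff''.1 hkN X).1 (mem_zpowers X)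
      obtain ⟨n, hn⟩ := (conf e hK hc).pow_of_X h2
      have h3 : X * s i = s i * X ^ n := by
        rw [← hn]; group
      have h4 : ∀ n : ℕ, ((X ^ n : M.G) : V ≃ₗ[ℚ] V) (vecU ℚ U vg) = vecU ℚ U vg := by
        intro n
        induction n with
        | zero => rfl
        | succ n ih => rw [pow_succ, coe_mul_apply, fixg_X, ih]
      show (X : V ≃ₗ[ℚ] V) ((s i : V ≃ₗ[ℚ] V) (vecU ℚ U vg)) = (s i : V ≃ₗ[ℚ] V) (vecU ℚ U vg)
      rw [← coe_mul_apply, h3, coe_mul_apply, h4]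
  intro k hk hks hkN
  have hr : r25 ∈ K := mem_K e hK hc r25_P (by rw [r25_sq]; exact s_mem e hK hc 25)
  have h4 : k * k * (k * k) = 1 := by
    have hs : s 25 ∈ K := s_mem e hK hc 25
    have a1 : e ⟨r25, hr⟩ * e ⟨r25, hr⟩ = e ⟨s 25, hs⟩ := by
      rw [← map_mul]; exact congrArg e (Subtype.ext r25_sq)
    have a2 := perm_four (e ⟨r25, hr⟩) (by
      rw [a1]
      intro h
      have h1 : (⟨s 25, hs⟩ : K) = 1 := e.injective (by rw [h, map_one])
      have h2 : s 25 = s 0 := by rw [s0]; exact congrArg Subtype.val h1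
      exact absurd (s_inj h2) (by decide)) (by
      rw [a1, ← map_mul, show (⟨s 25, hs⟩ : K) * ⟨s 25, hs⟩ = 1 from Subtype.ext (s_sq 25), map_one]) (e ⟨k, hk⟩) (by
      rw [a1, ← map_mul, ← map_mul]
      exact congrArg e (Subtype.ext hks))
    rw [← map_mul, ← map_mul, ← map_one e] at a2
    exact congrArg Subtype.val (e.injective a2)
  have h5 : k * k = 1 := by
    refine key (k * k) (mul_mem hk hk) ?_ (mul_mem hkN hkN) h4
    rw [mul_assoc, hks, ← mul_assoc, hks, mul_assoc]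
  exact key k hk hks hkN h5

end

end Cfsg.Agent.H995.LB
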