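import Cfsg.Agent.BabyM.WordsInst
import Cfsg.Agent.BabyM.TransCover

/-!
# `PSL(2, 23)` in the Baby Monster: words and vectors (helper995, for S5524)
-/

set_option autoImplicit false

namespace Cfsg.Agent.H995.LB

open Cfsg.Agent.Monster.VecEngine Cfsg.Agent.Monster.VecSpace
open Cfsg.Agent.BabyM.Conc

/-- The element of order `23`. -/
def wx : List Ltr := [.h, .y2, .xi, .p9, .y9, .xi, .hi, .p6, .y9, .p6, .y1, .hi, .p7, .X1, .X3, .X4, .X5, .X10, .Z1, .Z2, .Z3, .Z4, .Z5, .Z6, .Z8, .Z9, .z]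

/-- Its inverse. -/
def wxi : List Ltr := [.z, .Z9, .Z8, .Z6, .Z5, .Z4, .Z3, .Z2, .Z1, .X10, .X5, .X4, .X3, .X1, .p4, .h, .y1, .p5, .y9, .p5, .h, .xii, .y9, .p2, .xii, .y2, .hi]

/-- An involution inverting the element `p` of order `11`. -/
def wd : List Ltr := [.h, .p, .h, .p, .h, .p2, .h, .p3, .h, .p6, .h, .p3, .h, .Z1, .Z2, .Z4, .Z5, .Z7, .Z8]

/-- A transposition commuting with `p`. -/
def wT : List Ltr := [.Z7, .Z6, .Z1, .Z0, .X9, .X7, .X5, .X2, .X0, .y2, .xii, .p2, .xii, .p4, .taui, .xii, .p10, .xii, .p10, .taui, .xii, .p, .taui, .xii, .p, .Z0, .Z2, .Z4, .Z5, .Z6, .p10, .xi, .tau, .p10, .xi, .tau, .p, .xi, .p, .xi, .tau, .p7, .xi, .p9, .xi, .y2, .X0, .X2, .X5, .X7, .X9, .Z0, .Z1, .Z6, .Z7]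

/-- The generators of the symmetric group of degree `5` commuting with `p`. -/
def sg : ℕ → List Ltr
  | 0 => [.X10]
  | 1 => [.Z10]
  | 2 => [.tau]
  | 3 => [.taui]
  | 4 => [.z]
  | _ => wT

/-- A word in these generators. -/
def sw (l : List ℕ) : List Ltr := l.flatMap sg

/-- The elements of square `1`. -/
def Sw : Fin 26 → List ℕ := ![[],
  [0],
  [1],
  [4],
  [0, 2],
  [0, 3],
  [0, 4],
  [1, 4],
  [0, 1, 2],
  [0, 3, 1],
  [5],
  [0, 5],
  [0, 2, 5],
  [0, 3, 5],
  [1, 5, 1],
  [4, 5, 4],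
  [0, 4, 5, 4],
  [1, 0, 5, 1],
  [0, 2, 1, 5, 4],
  [0, 2, 4, 5, 1],
  [0, 3, 1, 5, 1],
  [0, 4, 3, 5, 4],
  [0, 1, 5, 1, 0],
  [0, 1, 5, 1, 2],
  [0, 1, 5, 1, 4],
  [0, 1, 5, 4, 3]]

/-- The values of the images of the vector of the base. -/
def Sc : Fin 26 → List ℤ := ![[384, 0, 2816, 128, 0, 0],
  [-384, 0, -2816, 0, 128, 0],
  [384, 0, -2816, 128, 0, 0],
  [384, 0, 2816, -128, 0, 0],
  [7232, 128, 0, 0, 0, 0],
  [-6848, 0, 0, 128, 0, 2816],
  [-384, 0, -2816, 0, -128, 0],
  [384, 0, -2816, -128, 0, 0],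
  [7232, -128, 0, 0, 0, 0],
  [-6848, 0, 0, 128, 0, -2816],
  [120, 3498, -568, 2686, 2442, -256],
  [-120, 3498, 568, 2442, 2686, -296],
  [-1000, 2686, 296, 3498, 2442, 256],
  [1120, 2442, -256, 2686, 3498, -568],
  [-56, -3498, -312, 2686, -2442, 432],
  [104, 3518, -568, -2538, -2462, 256],
  [-104, 3518, 568, -2462, -2538, 296],
  [56, -3498, 312, 2442, -2686, 120],
  [-1000, 2538, 296, -3518, -2462, -256],
  [-1088, -2686, -120, 3498, -2442, -432],
  [1032, -2442, 432, 2686, -3498, -312],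
  [1104, 2462, -256, -2538, -3518, 568],
  [-72, -3518, -312, -2538, 2462, -432],
  [-1088, -2538, -120, -3518, 2462, 432],
  [72, -3518, 312, -2462, 2538, -120],
  [1016, -2462, 432, -2538, 3518, 312]]

/-- The lanes of the values. -/
def code (y : Pl) : List ℤ := [val y 1313, val y 2048, val y 2162, val y 4096, val y 5120, val y 5234]

/-- The lanes of the main test. -/
def Sl : Fin 26 → List (Fin 11 × ℕ) := ![[(0, 1347), (1, 1347), (2, 1345), (3, 1346), (4, 1345), (5, 1346), (6, 1345), (7, 1346), (8, 1347), (9, 1345), (10, 1346)],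
  [(0, 1347), (1, 1347), (2, 1345), (3, 1346), (4, 1345), (5, 1346), (6, 1345), (7, 1346), (8, 1347), (9, 1345), (10, 1346)],
  [(0, 1347), (1, 1347), (2, 1345), (3, 1346), (4, 1345), (5, 1346), (6, 1345), (7, 1346), (8, 1347), (9, 1345), (10, 1346)],
  [(0, 1347), (1, 1347), (2, 1345), (3, 1346), (4, 1345), (5, 1346), (6, 1345), (7, 1346), (8, 1347), (9, 1345), (10, 1346)],
  [(0, 42), (1, 32), (2, 16), (3, 42), (4, 42), (5, 42), (6, 42), (7, 42), (8, 42), (9, 42), (10, 42)],
  [(0, 42), (1, 32), (2, 17), (3, 42), (4, 42), (5, 42), (6, 42), (7, 42), (8, 42), (9, 42), (10, 42)],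
  [(0, 1347), (1, 1347), (2, 1345), (3, 1346), (4, 1345), (5, 1346), (6, 1345), (7, 1346), (8, 1347), (9, 1345), (10, 1346)],
  [(0, 1347), (1, 1347), (2, 1345), (3, 1346), (4, 1345), (5, 1346), (6, 1345), (7, 1346), (8, 1347), (9, 1345), (10, 1346)],
  [(0, 42), (1, 32), (2, 16), (3, 42), (4, 42), (5, 42), (6, 42), (7, 42), (8, 42), (9, 42), (10, 42)],
  [(0, 42), (1, 32), (2, 17), (3, 42), (4, 42), (5, 42), (6, 42), (7, 42), (8, 42), (9, 42), (10, 42)],
  [(0, 0), (1, 0), (2, 0), (3, 1), (4, 0), (5, 0), (6, 0), (7, 0), (8, 0), (9, 0), (10, 0)],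
  [(0, 0), (1, 0), (2, 0), (3, 1), (4, 0), (5, 0), (6, 0), (7, 0), (8, 0), (9, 0), (10, 0)],
  [(0, 0), (1, 0), (2, 0), (3, 0), (4, 0), (5, 0), (6, 1), (7, 0), (8, 0), (9, 0), (10, 0)],
  [(0, 1), (1, 0), (2, 0), (3, 0), (4, 0), (5, 0), (6, 0), (7, 1), (8, 0), (9, 0), (10, 0)],
  [(0, 1), (1, 4), (2, 0), (3, 0), (4, 0), (5, 0), (6, 3), (7, 0), (8, 2), (9, 0), (10, 0)],
  [(0, 0), (1, 0), (2, 0), (3, 1), (4, 0), (5, 0), (6, 0), (7, 0), (8, 0), (9, 0), (10, 0)],
  [(0, 0), (1, 0), (2, 0), (3, 1), (4, 0), (5, 0), (6, 0), (7, 0), (8, 0), (9, 0), (10, 0)],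
  [(0, 1), (1, 3), (2, 0), (3, 0), (4, 0), (5, 0), (6, 3), (7, 0), (8, 2), (9, 0), (10, 0)],
  [(0, 0), (1, 0), (2, 0), (3, 0), (4, 0), (5, 0), (6, 1), (7, 0), (8, 0), (9, 0), (10, 0)],
  [(0, 1), (1, 0), (2, 0), (3, 0), (4, 1), (5, 1), (6, 0), (7, 0), (8, 1), (9, 0), (10, 0)],
  [(1, 1), (2, 0), (3, 0), (4, 0), (5, 0), (6, 0), (7, 0), (8, 1), (9, 0), (10, 0)],
  [(0, 1), (1, 0), (2, 0), (3, 0), (4, 0), (5, 0), (6, 0), (7, 1), (8, 0), (9, 0), (10, 0)],
  [(0, 1), (1, 4), (2, 0), (3, 0), (4, 0), (5, 0), (6, 3), (7, 0), (8, 2), (9, 0), (10, 0)],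
  [(0, 1), (1, 0), (2, 0), (3, 0), (4, 1), (5, 1), (6, 0), (7, 0), (8, 1), (9, 0), (10, 0)],
  [(0, 1), (1, 3), (2, 0), (3, 0), (4, 0), (5, 0), (6, 3), (7, 0), (8, 2), (9, 0), (10, 0)],
  [(1, 1), (2, 0), (3, 0), (4, 0), (5, 0), (6, 0), (7, 0), (8, 1), (9, 0), (10, 0)]]

/-- The lanes of the normaliser test. -/
def Sn : Fin 26 → ℕ := ![0, 0, 19, 0, 1, 1, 0, 19, 1, 1, 0, 0, 0, 0, 0, 0, 0, 0, 0, 0, 0, 0, 0, 0, 0, 0]

/-- The powers of `p`. -/
def pj : Fin 11 → List Ltr := ![[], [.p], [.p2], [.p3], [.p4], [.p5], [.p6], [.p7], [.p8], [.p9], [.p10]]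

/-- A vector fixed by `x` and `p`. -/
def vf : Pl := .cons 0x0 (.cons 0x0 (.cons 0x0 (.cons 0x0 (.cons 0x0 (.cons 0x0 (.cons 0x0 (.cons 0x5335f000000000000000000000000000000000000000000000000000000000000000000000000000000000000000000000000000000000000000000000000000000000000000000000000000000000000000000000000000000000000000000000000000000000000000000000000000000000000000000000000000000000000000000000000000000000000000000000000000000000000000000000000000000000000000000000000 (.sgn 0x0))))))))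

/-- A vector fixed by `x`. -/
def vg : Pl := .cons 0x0 (.cons 0x0 (.cons 0x0 (.cons 0x0 (.cons 0x0 (.cons 0x0 (.cons 0x0 (.cons 0x10000000000000000000001000000000000002000000000000000000000000002000000000000004000000000000000000000000004000000000000000010000400000000000000020000000000000000400000000000000000000000000000000000400000000000400000000000000000000000000000000000000000000000000000000000000000000000000000000000000000000000000000000000000000000000000000000000000000000000000000000000000000000000000000000000000000000000000000000000000000000000000000000000000040000000000000000000010000000000000000400000000020000000000000000000000000000000000000000100000000000000000000000000008000000000000000000000000000000200000000000000000000000000000000000000000000000000000000000000000000000000040000000000000000000000000000000000000000000000000000000000100080001 (.sgn 0x400000000000000001000000000000000000002000000000000000040000000000000000000000000000000000040000000000000000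0000000000000000000000000000000000000000000000000000000000000000000000000000000000000000000000000000000000000000000000000000000000000000000000000000000000000000000000000000000000000000000000000000000000000000000000000000000000000000000000000000000010000000000000000400000000020000000000000000000000000000000000000000100000000000000000000000000000000000000000000000000000000000200000000000000000000000000000000000000000000000000000000000000000000000000040000000000000000000000000000000000000000000000000000000000100000000))))))))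

end Cfsg.Agent.H995.LB
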