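import Cfsg.Agent.H995.LB.Red
import Cfsg.Agent.H995.LB.ChkA
import Cfsg.Agent.H995.LB.ChkB
import Cfsg.Agent.H995.LB.ChkC
import Cfsg.Agent.H995.LB.ChkD
import Cfsg.Agent.H995.LB.ChkE
import Cfsg.Agent.BM.StageWRel
import Cfsg.Agent.BabyM.Instance

/-!
# `PSL(2, 23)` in the Baby Monster: the elements (helper995, for S5524)
-/

set_option autoImplicit false

namespace Cfsg.Agent.H995.LB

open Subgroup
open Cfsg.Agent.Monster.VecEngine Cfsg.Agent.Monster.VecSpace
open Cfsg.Agent.BabyM.Conc Cfsg.Agent.BabyM.Inst Cfsg.Agent.BabyM.WordsInst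
  Cfsg.Agent.BM.StageW Cfsg.Agent.BabyM.TransCover

theorem eq_of_eqc {v w : List Ltr} (h : eqc v w = true) : Wg v = Wg w :=
  eq_of_chk BabyM.Instance.all BabyM.Instance.ok h

theorem comm_of_eqc {v w : List Ltr} (h : eqc (v ++ w) (w ++ v) = true) : Wg v * Wg w = Wg w * Wg v := by
  have h1 := eq_of_eqc h
  rw [Wg_append, Wg_append] at h1
  exact h1.symm

/-- The element of order `23`. -/
noncomputable def X : M.G := Wg wx

/-- The element of order `11`. -/
noncomputable def P : M.G := Wg [.p]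

/-- The involution inverting `P`. -/
noncomputable def D : M.G := Wg wd

/-- The elements of square `1`. -/
noncomputable def s (i : Fin 26) : M.G := Wg (sw (Sw i))

/-- The central involution of the involution centralizer. -/
noncomputable def Z : M.G := Wg [.z]

theorem sw_cons (n : ℕ) (l : List ℕ) : sw (n :: l) = sg n ++ sw l := rfl

theorem sw_nil : sw [] = [] := rfl

theorem sw_comm {g : M.G} (h : ∀ n, Wg (sg n) * g = g * Wg (sg n)) (l : List ℕ) :
    Wg (sw l) * g = g * Wg (sw l) := by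
  induction l with
  | nil => rw [sw_nil, Wg_nil, one_mul, mul_one]
  | cons n l ih => rw [sw_cons, Wg_append, mul_assoc, h, ← mul_assoc, ih, mul_assoc]

theorem taui_eq : Wg [.taui] = (Wg [.tau])⁻¹ := by
  have h := eq_of_eqc e_taui
  rw [Wg_append, Wg_nil] at h
  exact eq_inv_of_mul_eq_one_left h

theorem sg_P : ∀ n, Wg (sg n) * P = P * Wg (sg n)
  | 0 => (comm_of_eqc a_px0).symm
  | 1 => (comm_of_eqc a_pz0).symm
  | 2 => (comm_of_eqc a_pt).symm
  | 3 => by
    show Wg [.taui] * P = P * Wg [.taui]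
    rw [taui_eq]
    exact (Commute.inv_left (comm_of_eqc a_pt).symm : Commute _ _)
  | 4 => (comm_of_eqc a_pz).symm
  | _ + 5 => (comm_of_eqc a_pT).symm

theorem sg_D : ∀ n, Wg (sg n) * D = D * Wg (sg n)
  | 0 => (comm_of_eqc a_dx0).symm
  | 1 => (comm_of_eqc a_dz0).symm
  | 2 => (comm_of_eqc a_dt).symm
  | 3 => by
    show Wg [.taui] * D = D * Wg [.taui]
    rw [taui_eq]
    exact (Commute.inv_left (comm_of_eqc a_dt).symm : Commute _ _)
  | 4 => (comm_of_eqc a_dz).symm
  | _ + 5 => (comm_of_eqc a_dT).symm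

theorem s_P (i : Fin 26) : s i * P = P * s i := sw_comm sg_P _

theorem s_D (i : Fin 26) : s i * D = D * s i := sw_comm sg_D _

theorem s_sq (i : Fin 26) : s i * s i = 1 := by
  have h := eq_of_eqc (b_sq i)
  rw [Wg_append, Wg_nil] at h
  exact h

theorem Z_P : Z * P = P * Z := (comm_of_eqc a_pz).symm

theorem Z_D : Z * D = D * Z := (comm_of_eqc a_dz).symm

theorem Z_X : Z * X = X * Z := (comm_of_eqc a_zx).symm

theorem Z_sq : Z * Z = 1 := by
  have h := eq_of_eqc a_zz
  rw [Wg_append, Wg_nil] at h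
  exact h

theorem D_sq : D * D = 1 := by
  have h := eq_of_eqc a_dd
  rw [Wg_append, Wg_nil] at h
  exact h

theorem rep_p (n : ℕ) : Wg (List.replicate n .p) = P ^ n := by
  induction n with
  | zero => rw [List.replicate_zero, Wg_nil, pow_zero]
  | succ n ih =>
    rw [List.replicate_succ, show (Ltr.p :: List.replicate n .p) = [.p] ++ List.replicate n .p from rfl, Wg_append, ih,
      pow_succ]
    rfl

theorem P11 : P ^ 11 = 1 := by
  rw [← rep_p, eq_of_eqc e_p11, Wg_nil]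

theorem pj_eq (j : Fin 11) : Wg (pj j) = P ^ j.1 := by
  rw [← rep_p, eq_of_eqc (e_pj j)]

theorem Pinv : Wg [.p10] = P⁻¹ := by
  rw [eq_inv_iff_mul_eq_one, show Wg [.p10] = P ^ 10 from pj_eq 10, ← pow_succ, P11]

theorem X23 : X ^ 23 = 1 := by
  have h := eq_of_eqc a_x23
  simp only [Wg_append, Wg_nil] at h
  rw [← h]
  simp only [pow_succ, pow_zero, one_mul, mul_assoc]
  rfl

theorem PX : P * X * P⁻¹ = X ^ 16 := by
  have h := eq_of_eqc a_px
  simp only [Wg_append] at h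
  rw [Pinv] at h
  have h1 : P * (X * P⁻¹) = X ^ 16 := by
    simp only [pow_succ, pow_zero, one_mul, mul_assoc]
    exact h
  rw [mul_assoc]
  exact h1

theorem DPD : D * P * D = P⁻¹ := by
  have h := eq_of_eqc a_dpd
  rw [Wg_append, Wg_append, Pinv] at h
  rw [mul_assoc]
  exact h

/-- the good triple -/
theorem rel25 : Rel X P (D * s 25) where
  x23 := X23
  y11 := P11
  yx := PX
  t2 := by
    calc D * s 25 * (D * s 25) = D * (s 25 * D) * s 25 := by simp only [mul_assoc]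
      _ = (D * D) * (s 25 * s 25) := by rw [s_D]; simp only [mul_assoc]
      _ = 1 := by rw [D_sq, s_sq, one_mul]
  ty := by
    calc D * s 25 * P * (D * s 25) = D * (s 25 * P) * (D * s 25) := by simp only [mul_assoc]
      _ = D * P * (s 25 * D) * s 25 := by rw [s_P]; simp only [mul_assoc]
      _ = D * P * D * (s 25 * s 25) := by rw [s_D]; simp only [mul_assoc]
      _ = P⁻¹ := by rw [DPD, s_sq, mul_one]
  xt := by
    have h := eq_of_eqc a_xt
    simp only [Wg_append, Wg_nil] at h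
    have h1 : X * (D * s 25) * (X * (D * s 25)) * (X * (D * s 25)) = 1 := by
      simp only [mul_assoc] at h ⊢
      exact h
    rw [pow_succ, pow_two]
    exact h1

theorem s20 : s 20 = Z * s 25 * Z := by
  have h := eq_of_eqc a_good
  rw [Wg_append, Wg_append] at h
  rw [mul_assoc]
  exact h.symm

/-- the root of the good element -/
noncomputable def r25 : M.G := Wg (sw [1, 2, 5])

theorem r25_sq : r25 * r25 = s 25 := by
  have h := eq_of_eqc a_root
  rw [Wg_append] at h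
  exact h

theorem r25_P : r25 * P = P * r25 := sw_comm sg_P _

/-! ### Soundness of the tests -/

theorem vecU_apply (x : Pl) (l : ℕ) (hl : U.testBit l = true) : vecU ℚ U x ⟨l, hl⟩ = (val x l : ℚ) := rfl

theorem ne_of_val {x y : Pl} {l : ℕ} (hl : U.testBit l = true) (h : val x l ≠ val y l) :
    vecU ℚ U x ≠ vecU ℚ U y := by
  intro he
  have h1 := congrFun he ⟨l, hl⟩
  rw [vecU_apply, vecU_apply] at h1
  exact h (by exact_mod_cast h1)

theorem k6_sound {u : List ℕ} {L : List (Fin 11 × ℕ)} (h : k6 u L = true) {q : Fin 11 × ℕ} (hq : q ∈ L) :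
    W (pj q.1) (W (wxi ++ sw u ++ wd) (W (sw u ++ wd) (vecU ℚ U vf))) ≠
      W wx (W (sw u ++ wd) (vecU ℚ U vf)) := by
  unfold k6 at h
  obtain ⟨w, hw, h1⟩ := W_run h
  obtain ⟨a, ha, h2⟩ := W_run h1
  obtain ⟨v, hv, h3⟩ := W_run h2
  have h4 := List.all_eq_true.1 h3 q hq
  rw [Bool.and_eq_true] at h4
  obtain ⟨y, hy, h5⟩ := W_run h4.2
  rw [← hw, ← ha, ← hv, ← hy]
  rw [Bool.not_eq_true', decide_eq_false_iff_not] at h5
  exact ne_of_val h4.1 h5

theorem k7_sound {u : List ℕ} {l : ℕ} (h : k7 u l = true) :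
    W wx (W (sw u) (vecU ℚ U vg)) ≠ W (sw u) (vecU ℚ U vg) := by
  unfold k7 at h
  rw [Bool.and_eq_true] at h
  obtain ⟨a, ha, h1⟩ := W_run h.2
  obtain ⟨b, hb, h2⟩ := W_run h1
  rw [← ha, ← hb]
  rw [Bool.not_eq_true', decide_eq_false_iff_not] at h2
  exact ne_of_val h.1 h2

theorem mv_sound {v : List Ltr} {x : Pl} {l : ℕ} (h : mv v x l = true) : W v (vecU ℚ U x) ≠ vecU ℚ U x := by
  unfold mv at h
  rw [Bool.and_eq_true] at h
  obtain ⟨a, ha, h1⟩ := W_run h.2
  rw [← ha]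
  rw [Bool.not_eq_true', decide_eq_false_iff_not] at h1
  exact ne_of_val h.1 h1

theorem k5_sound {u : List ℕ} {c : List ℤ} (h : k5 u c = true) :
    ∃ y : Pl, vecU ℚ U y = W (sw u) (vecU ℚ U vB) ∧ code y = c := by
  unfold k5 at h
  obtain ⟨a, ha, h1⟩ := W_run h
  exact ⟨a, ha, of_decide_eq_true h1⟩

theorem testBits : U.testBit 1313 = true ∧ U.testBit 2048 = true ∧ U.testBit 2162 = true ∧ U.testBit 4096 = true ∧
    U.testBit 5120 = true ∧ U.testBit 5234 = true := by decide +kernel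

theorem code_congr {x y : Pl} (h : vecU ℚ U x = vecU ℚ U y) : code x = code y := by
  have key : ∀ l, U.testBit l = true → val x l = val y l := by
    intro l hl
    by_contra hne
    exact ne_of_val hl hne h
  obtain ⟨h1, h2, h3, h4, h5, h6⟩ := testBits
  unfold code
  rw [key _ h1, key _ h2, key _ h3, key _ h4, key _ h5, key _ h6]

theorem s_inj : Function.Injective s := by
  intro i j hij
  obtain ⟨x, hx, hcx⟩ := k5_sound (b_code i)
  obtain ⟨y, hy, hcy⟩ := k5_sound (b_code j)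
  have h1 : W (sw (Sw i)) = W (sw (Sw j)) := congrArg Subtype.val hij
  rw [h1, ← hy] at hx
  exact b_inj i j (by rw [← hcx, ← hcy, code_congr hx])

/-- the action on vectors -/
theorem Wg_apply (v : List Ltr) (f : V) : (Wg v : V ≃ₗ[ℚ] V) f = W v f := rfl

theorem fixf_X : (X : V ≃ₗ[ℚ] V) (vecU ℚ U vf) = vecU ℚ U vf := W_fix_of_check d_fixf

theorem fixf_P : (P : V ≃ₗ[ℚ] V) (vecU ℚ U vf) = vecU ℚ U vf := W_fix_of_check d_fixf'

theorem fixg_X : (X : V ≃ₗ[ℚ] V) (vecU ℚ U vg) = vecU ℚ U vg := W_fix_of_check d_fixg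

theorem Xinv : Wg wxi = X⁻¹ := by
  have h := eq_of_eqc a_xxi
  rw [Wg_append, Wg_nil] at h
  exact eq_inv_of_mul_eq_one_left h

theorem coe_mul_apply (a b : M.G) (f : V) : ((a * b : M.G) : V ≃ₗ[ℚ] V) f = (a : V ≃ₗ[ℚ] V) ((b : V ≃ₗ[ℚ] V) f) := rfl

theorem fix_inv {a : M.G} {f : V} (h : (a : V ≃ₗ[ℚ] V) f = f) : ((a⁻¹ : M.G) : V ≃ₗ[ℚ] V) f = f := by
  have h1 : ((a⁻¹ : M.G) : V ≃ₗ[ℚ] V) ((a : V ≃ₗ[ℚ] V) f) = f := by
    rw [← coe_mul_apply, inv_mul_cancel]
    rfl
  rwa [h] at h1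

/-- **the main test** -/
theorem main_test (i : Fin 26) (j : ℕ) (hj : j < 11) (h : (X * (P ^ j * D * s i)) ^ 3 = 1) :
    (i = 20 ∨ i = 25) ∧ j = 0 := by
  rcases c_cover i ⟨j, hj⟩ with hc | ⟨q, hq, hqj⟩
  · exact ⟨hc.1, congrArg Fin.val hc.2⟩
  · exfalso
    apply k6_sound (c_main i) hq
    -- everything in the group
    have hP : ∀ n : ℕ, ((P ^ n : M.G) : V ≃ₗ[ℚ] V) (vecU ℚ U vf) = vecU ℚ U vf := by
      intro n
      induction n with
      | zero => rfl
      | succ n ih => rw [pow_succ, coe_mul_apply, fixf_P, ih]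
    have hj2 : P ^ j * P ^ (11 - j) = 1 := by
      rw [← pow_add, show j + (11 - j) = 11 by omega, P11]
    have e1 : W (sw (Sw i) ++ wd) (vecU ℚ U vf) = ((D * s i : M.G) : V ≃ₗ[ℚ] V) (vecU ℚ U vf) := by
      rw [← Wg_apply, Wg_append]; rfl
    have e2 : ∀ f, W (wxi ++ sw (Sw i) ++ wd) f = ((D * s i * X⁻¹ : M.G) : V ≃ₗ[ℚ] V) f := by
      intro f
      rw [← Wg_apply, Wg_append, Wg_append, Xinv, mul_assoc]; rfl
    have e3 : ∀ f, W (pj q.1) f = ((P ^ j : M.G) : V ≃ₗ[ℚ] V) f := by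
      intro f
      rw [← Wg_apply, pj_eq, hqj]
    rw [e1, e2, e3]
    show _ = (X : V ≃ₗ[ℚ] V) _
    -- `t f = d s f`
    have ht : ((P ^ j * D * s i : M.G) : V ≃ₗ[ℚ] V) (vecU ℚ U vf) = ((D * s i : M.G) : V ≃ₗ[ℚ] V) (vecU ℚ U vf) := by
      have h1 : P ^ j * D * s i = D * s i * (P ^ j)⁻¹ := by
        have h2 : P ^ j * D = D * (P ^ j)⁻¹ := by
          have h3 : (D * P * D) ^ j = (P ^ j)⁻¹ := by rw [DPD, inv_pow]
          have h4 : (D * P * D) ^ j = D * P ^ j * D := by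
            have h5 : D⁻¹ = D := inv_eq_of_mul_eq_one_left D_sq
            have h6 := conj_pow (i := j) (a := D) (b := P)
            rwa [h5] at h6
          rw [← h3, h4, ← mul_assoc, ← mul_assoc, D_sq, one_mul]
        have h7 : (P ^ j)⁻¹ * s i = s i * (P ^ j)⁻¹ :=
          ((Commute.pow_right (s_P i) j).inv_right).symm
        rw [h2, mul_assoc, h7, mul_assoc]
      rw [h1, coe_mul_apply, fix_inv (hP j)]
    have h1 : P ^ j * D * s i * X⁻¹ * (P ^ j * D * s i) = X * (P ^ j * D * s i) * X := by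
      set t := P ^ j * D * s i with ht'
      have htt : t * t = 1 := by
        have h2 : D * P ^ j * D = (P ^ j)⁻¹ := by
          have h3 : (D * P * D) ^ j = (P ^ j)⁻¹ := by rw [DPD, inv_pow]
          have h4 : (D * P * D) ^ j = D * P ^ j * D := by
            have h5 : D⁻¹ = D := inv_eq_of_mul_eq_one_left D_sq
            have h6 := conj_pow (i := j) (a := D) (b := P)
            rwa [h5] at h6
          rw [← h3, h4]
        have h7 : s i * P ^ j = P ^ j * s i := Commute.pow_right (s_P i) j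
        calc t * t = P ^ j * D * (s i * P ^ j) * (D * s i) := by rw [ht']; simp only [mul_assoc]
          _ = P ^ j * (D * P ^ j) * (s i * D) * s i := by rw [h7]; simp only [mul_assoc]
          _ = P ^ j * (D * P ^ j * D) * (s i * s i) := by rw [s_D]; simp only [mul_assoc]
          _ = 1 := by rw [h2, mul_inv_cancel, s_sq, one_mul]
      have hti : t⁻¹ = t := inv_eq_of_mul_eq_one_left htt
      have h3 : X * t * (X * t) * (X * t) = 1 := by
        rw [pow_succ, pow_two] at h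
        exact h
      have h4 : X * t * (X * t) = t * X⁻¹ := by
        rw [eq_inv_of_mul_eq_one_left h3, mul_inv_rev, hti]
      rw [← h4, mul_assoc, mul_assoc X t t, htt, mul_one]
    have h2 : ((P ^ j : M.G) : V ≃ₗ[ℚ] V) (((D * s i * X⁻¹ : M.G) : V ≃ₗ[ℚ] V)
        (((D * s i : M.G) : V ≃ₗ[ℚ] V) (vecU ℚ U vf))) =
        ((P ^ j * D * s i * X⁻¹ * (P ^ j * D * s i) : M.G) : V ≃ₗ[ℚ] V) (vecU ℚ U vf) := by
      rw [coe_mul_apply (P ^ j * D * s i * X⁻¹), ht, ← coe_mul_apply (P ^ j)]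
      simp only [mul_assoc]
    rw [h2, h1, coe_mul_apply, fixf_X, coe_mul_apply, ht]

end Cfsg.Agent.H995.LB
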